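import Groth.Agent.S14744
import Groth.Agent.GrpSchLib.AntiAffineHom
import Groth.Agent.GrpSchLib.AntiAffineSmoothAny
import Groth.Agent.GrpSchLib.SmoothReduced
import Groth.Agent.GrpSchLib.HomFlat
import Groth.Agent.GrpSchLib.FieldComp
import Groth.Agent.H23.Isogeny

/-!
# Powers on anti-affine groups are quasi-finite
-/

set_option autoImplicit false

universe u

open CategoryTheory Limits AlgebraicGeometry MonoidalCategory CartesianMonoidalCategory MonObj GrpObj
  TopologicalSpace

namespace Groth.Agent.GrpAffPow

open Groth.Agent.GrpSchLib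

variable {k : Type u} [Field k] (N : Over (Spec (CommRingCat.of k))) [GrpObj N] [LocallyOfFiniteType N.hom]
  [QuasiCompact N.hom]

theorem irreducibleSpace_of_connected [ConnectedSpace N.left] : IrreducibleSpace N.left := by
  obtain ⟨g, hg, hge⟩ := exists_isMaxPt (η[N].left (IsLocalRing.closedPoint k))
  have h := connectedComponent_one hg hge
  rw [PreconnectedSpace.connectedComponent_eq_univ] at h
  have hirr : IsIrreducible (Set.univ : Set N.left) := h ▸ isIrreducible_singleton.closure
  haveI : PreirreducibleSpace N.left := ⟨hirr.2⟩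
  exact ⟨⟨η[N].left (IsLocalRing.closedPoint k)⟩⟩

/-- The powers of an anti-affine group are surjective. -/
theorem surjective_pow (hN : Function.Bijective N.hom.appTop) (n : ℕ) (hn : 0 < n) :
    Surjective ((𝟙 N) ^ n).left := by
  haveI := AntiAffineSmooth.smooth hN
  let σ := Spec.map (CommRingCat.ofHom (algebraMap k (AlgebraicClosure k)))
  let F := Over.pullback σ
  obtain ⟨h1, h2, h3⟩ := AntiAffine.bc_hyp hN σ
  haveI := h1
  haveI := h2
  haveI : Smooth (F.obj N).hom := inferInstanceAs (Smooth (pullback.snd N.hom σ))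
  haveI : ConnectedSpace ↥(F.obj N).left := AntiAffine.connectedSpace_of_bijective h3
  have hs : Surjective ((𝟙 (F.obj N)) ^ n).left :=
    S14744.result (AlgebraicClosure k) (F.obj N) ((AntiAffine.bijective_appTop_iff _).mpr h3) n hn
  have e : F.map ((𝟙 N) ^ n) = (𝟙 (F.obj N)) ^ n := by
    rw [← F.map_id N]
    exact map_pow F.homMonoidHom (𝟙 N) n
  rw [← e] at hs
  have hsq : (F.map ((𝟙 N) ^ n)).left ≫ pullback.fst N.hom σ = pullback.fst N.hom σ ≫ ((𝟙 N) ^ n).left :=
    pullback.lift_fst _ _ _
  haveI : Surjective σ := surjective_spec_map_field _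
  haveI : Surjective (pullback.fst N.hom σ ≫ ((𝟙 N) ^ n).left) := by
    rw [← hsq]
    exact MorphismProperty.comp_mem @Surjective _ _ hs inferInstance
  exact Surjective.of_comp (pullback.fst N.hom σ) _

variable [IsCommMonObj N]

omit [LocallyOfFiniteType N.hom] [QuasiCompact N.hom] in
theorem isMonHom_pow (n : ℕ) : IsMonHom ((𝟙 N) ^ n : N ⟶ N) := by
  induction n with
  | zero =>
    rw [pow_zero]
    exact inferInstanceAs (IsMonHom (toUnit N ≫ η[N]))
  | succ n ih =>
    rw [pow_succ]
    exact inferInstanceAs (IsMonHom (lift ((𝟙 N) ^ n : N ⟶ N) (𝟙 N) ≫ μ[N]))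

/-- The powers of an anti-affine group are locally quasi-finite. -/
theorem locallyQuasiFinite_pow (hN : Function.Bijective N.hom.appTop) (n : ℕ) (hn : 0 < n) :
    LocallyQuasiFinite ((𝟙 N) ^ n).left := by
  haveI := AntiAffineSmooth.smooth hN
  haveI := AntiAffine.connectedSpace_of_bijective (X := N.left) hN
  haveI := irreducibleSpace_of_connected N
  haveI : IsReduced N.left := isReduced_of_smooth_field N.hom
  haveI : IsIntegral N.left := isIntegral_of_irreducibleSpace_of_isReduced _
  let φ : N ⟶ N := (𝟙 N) ^ n
  haveI : IsMonHom φ := isMonHom_pow N n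
  haveI := AntiAffine.isSeparated_grp N
  haveI : QuasiCompact (φ.left ≫ N.hom) := by rw [Over.w φ]; infer_instance
  haveI : QuasiCompact φ.left := QuasiCompact.of_comp φ.left N.hom
  haveI : Surjective φ.left := surjective_pow N hN n hn
  haveI : LocallyOfFiniteType φ.left := by
    have : LocallyOfFiniteType (φ.left ≫ N.hom) := by rw [Over.w φ]; infer_instance
    exact locallyOfFiniteType_of_comp φ.left N.hom
  haveI : Flat φ.left := flat_of_surjective_hom φ
  haveI : IsLocallyNoetherian N.left := LocallyOfFiniteType.isLocallyNoetherian N.hom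
  have hf : φ.left ≫ N.hom = N.hom := Over.w φ
  have hzero : ∀ x, VarDim.fdeg φ.left x = 0 := fun x => by
    obtain ⟨b, hb, ⟨ξ, -, hξd⟩, -⟩ := VarDim.exists_deg_add_stalk N.hom x
    obtain ⟨b', hb', -, hle'⟩ := VarDim.exists_deg_add_stalk N.hom (φ.left x)
    have hbb : b' ≤ b := by
      have := H23.Isogeny.ringKrullDim_le_of_flat (φ.left.stalkMap x).hom (Flat.stalkMap φ.left x)
      rw [hb, hb'] at this
      exact_mod_cast this
    have h1 : VarDim.deg N.hom ξ ≤ VarDim.deg N.hom (genericPoint N.left) :=
      VarDim.deg_le_of_specializes N.hom (genericPoint_specializes ξ)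
    have h2 := hle' _ (genericPoint_specializes (φ.left x))
    have h3 := VarDim.deg_eq_add φ.left N.hom hf x
    omega
  refine .of_finite_preimage_singleton φ.left fun y => ?_
  haveI : IsLocallyNoetherian (φ.left.fiber y) :=
    LocallyOfFiniteType.isLocallyNoetherian (φ.left.fiberToSpecResidueField y)
  haveI : CompactSpace (φ.left.fiber y) :=
    QuasiCompact.compactSpace_of_compactSpace (φ.left.fiberToSpecResidueField y)
  haveI : IsNoetherian (φ.left.fiber y) := { }
  have hcl : ∀ z : φ.left.fiber y, IsClosed ({z} : Set (φ.left.fiber y)) := fun z =>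
    (VarDim.closedPoint_iff_deg_eq_zero (k := N.left.residueField y) (φ.left.fiberToSpecResidueField y) z).2
      (by rw [VarDim.deg_fiber]; exact hzero _)
  have hfin : Finite (φ.left.fiber y) := by
    have hc := (NoetherianSpace.finite_irreducibleComponents (α := φ.left.fiber y))
    have : (Set.univ : Set (φ.left.fiber y)).Finite := by
      refine (hc.biUnion (t := fun C => C) fun C hC => ?_).subset fun z _ =>
        Set.mem_biUnion (irreducibleComponent_mem_irreducibleComponents z) mem_irreducibleComponent
      have hg := hC.1.isGenericPoint_genericPoint (isClosed_of_mem_irreducibleComponents C hC)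
      rw [← hg.def, (hcl _).closure_eq]
      exact Set.finite_singleton _
    exact Set.finite_univ_iff.1 this
  rw [← φ.left.range_fiberι y]
  exact Set.finite_range _

end Groth.Agent.GrpAffPow
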