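import Groth.Agent.GrpAffPow.AntiAffinePow
import Groth.Agent.GrpSchLib.AffinizationKer
import Groth.Agent.GrpSchLib.HomFinite
import Groth.Agent.GrpSchLib.KernelGrp

/-!
# The power maps of a commutative algebraic group are affine
-/

set_option autoImplicit false

universe u

open CategoryTheory Limits AlgebraicGeometry MonoidalCategory CartesianMonoidalCategory MonObj GrpObj

namespace Groth.Agent.GrpAffPow

open Groth.Agent.GrpSchLib

variable {k : Type u} [Field k]

/-- The kernel of the map onto the affine hull. -/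
theorem exists_antiAffine_kernel (G : Over (Spec (CommRingCat.of k))) [GrpObj G] [IsCommMonObj G]
    [LocallyOfFiniteType G.hom] [QuasiCompact G.hom] :
    ∃ (I : Over (Spec (CommRingCat.of k))) (_ : GrpObj I) (p : G ⟶ I) (N : Over (Spec (CommRingCat.of k)))
      (_ : GrpObj N) (i : N ⟶ G),
      IsMonHom p ∧ IsAffine I.left ∧ LocallyOfFiniteType I.hom ∧ IsMonHom i ∧ IsClosedImmersion i.left ∧
        AlgGrp.IsKernel i p ∧ Function.Bijective N.hom.appTop := by
  haveI := AntiAffine.isSeparated_grp G
  obtain ⟨I, _, p, hp, hI, hlft, hfl, hs, hb⟩ := Affinization.exists_affinization G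
  haveI := hp; haveI := hI; haveI := hlft
  haveI : IsSeparated I.hom := AntiAffine.isSeparated_grp I
  obtain ⟨N, _, i, hi, hic, -, hker⟩ := exists_kernel p
  refine ⟨I, inferInstance, p, N, inferInstance, i, hp, hI, hlft, hi, hic, hker, ?_⟩
  obtain ⟨_, -, -, hN'⟩ := AffinizationKer.main G
  haveI : IsIso p.left.appTop := (ConcreteCategory.isIso_iff_bijective _).mpr hb
  let m : I.left ⟶ Spec Γ(G.left, ⊤) := I.left.toSpecΓ ≫ inv (Spec.map p.left.appTop)
  have hm : G.left.toSpecΓ = p.left ≫ m := by
    rw [← Category.assoc, Scheme.toSpecΓ_naturality, Category.assoc, IsIso.hom_inv_id, Category.comp_id]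
  have hη : η[G].left ≫ G.left.toSpecΓ = η[I].left ≫ m := by
    rw [hm, ← Category.assoc, ← Over.comp_left, IsMonHom.one_hom]
  -- the two kernels are the same scheme
  have hsq : IsPullback i.left (toUnit N).left p.left η[I].left := hker.map (Over.forget _)
  have hsq' : IsPullback i.left (toUnit N).left G.left.toSpecΓ (η[G].left ≫ G.left.toSpecΓ) := by
    refine ⟨⟨?_⟩, ⟨PullbackCone.isLimitAux' _ fun s => ?_⟩⟩
    · rw [hη, hm, ← Category.assoc, hsq.w, Category.assoc]
    · have hw : s.fst ≫ p.left = s.snd ≫ η[I].left := by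
        rw [← cancel_mono m, Category.assoc, Category.assoc, ← hm, ← hη]
        exact s.condition
      exact ⟨hsq.lift s.fst s.snd hw, hsq.lift_fst _ _ _, hsq.lift_snd _ _ _,
        fun h1 h2 => hsq.hom_ext (h1.trans (hsq.lift_fst _ _ _).symm) (h2.trans (hsq.lift_snd _ _ _).symm)⟩
  let e := hsq'.isoPullback
  have he : e.hom ≫ (AffinizationKer.ker G).hom = N.hom := by
    show e.hom ≫ pullback.snd _ _ ≫ _ = _
    rw [hsq'.isoPullback_hom_snd_assoc, Over.w (toUnit N)]
  rw [← he, Scheme.Hom.comp_appTop]
  show Function.Bijective (e.hom.appTop ∘ (AffinizationKer.ker G).hom.appTop)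
  haveI : IsIso e.hom.appTop := inferInstanceAs (IsIso (Scheme.Γ.map e.hom.op))
  exact ((ConcreteCategory.isIso_iff_bijective e.hom.appTop).mp inferInstance).comp hN'

/-- The power maps are affine. -/
theorem isAffineHom_pow (G : Over (Spec (CommRingCat.of k))) [GrpObj G] [IsCommMonObj G]
    [LocallyOfFiniteType G.hom] [QuasiCompact G.hom] (n : ℕ) (hn : 0 < n) :
    IsAffineHom ((𝟙 G ^ n : G ⟶ G).left) := by
  obtain ⟨I, _, p, N, _, i, hp, hI, hIl, hi, hic, hker, hN⟩ := exists_antiAffine_kernel G
  haveI := hp; haveI := hI; haveI := hIl; haveI := hi; haveI := hic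
  haveI := AntiAffine.isSeparated_grp G
  haveI := AntiAffine.isSeparated_grp I
  haveI := AntiAffine.isSeparated_grp N
  haveI : Mono i := ⟨fun a b hab => hker.hom_ext hab (toUnit_unique _ _)⟩
  haveI : LocallyOfFiniteType N.hom := by rw [← Over.w i]; infer_instance
  haveI : QuasiCompact N.hom := by rw [← Over.w i]; infer_instance
  haveI : IsCommMonObj N := (isCommMonObj_iff_isMulCommutative N).2 fun X => ⟨⟨fun a b => by
    rw [← cancel_mono i, MonObj.mul_comp, MonObj.mul_comp]
    exact ((isCommMonObj_iff_isMulCommutative G).1 inferInstance X).is_comm.comm _ _⟩⟩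
  let φ : G ⟶ G := (𝟙 G) ^ n
  haveI : IsMonHom φ := isMonHom_pow G n
  let u : G ⟶ G ⊗ I := lift φ p
  haveI : IsMonHom u := inferInstanceAs (IsMonHom (lift φ p))
  haveI : LocallyOfFiniteType (G ⊗ I).hom :=
    inferInstanceAs (LocallyOfFiniteType (pullback.fst G.hom I.hom ≫ G.hom))
  haveI : IsSeparated (G ⊗ I).hom := inferInstanceAs (IsSeparated (pullback.fst G.hom I.hom ≫ G.hom))
  haveI : QuasiCompact (u.left ≫ (G ⊗ I).hom) := by rw [Over.w u]; infer_instance
  haveI : QuasiCompact u.left := QuasiCompact.of_comp u.left (G ⊗ I).hom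
  -- the kernel of `(n, p)` is discrete
  have hd : DiscreteTopology ↥(Limits.pullback u.left (η[G ⊗ I]).left) := by
    let K : Over (Spec (CommRingCat.of k)) :=
      Over.mk (pullback.snd u.left η[G ⊗ I].left ≫ (𝟙_ (Over (Spec (CommRingCat.of k)))).hom)
    let j : K ⟶ G := Over.homMk (pullback.fst u.left η[G ⊗ I].left) (by
      show _ ≫ G.hom = _ ≫ _
      rw [← Over.w u, pullback.condition_assoc, Over.w η[G ⊗ I]])
    have hj : j ≫ u = 1 := Over.OverMorphism.ext pullback.condition
    have hjφ : j ≫ φ = 1 := by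
      rw [show φ = u ≫ fst G I from (lift_fst _ _).symm, reassoc_of% hj, MonObj.one_comp]
    have hjp : j ≫ p = 1 := by
      rw [show p = u ≫ snd G I from (lift_snd _ _).symm, reassoc_of% hj, MonObj.one_comp]
    obtain ⟨l, hl⟩ : ∃ l : K ⟶ N, l ≫ i = j := ⟨hker.lift j (toUnit _) hjp, hker.lift_fst _ _ _⟩
    let ψ : N ⟶ N := (𝟙 N) ^ n
    have hlψ : l ≫ ψ = 1 := by
      rw [← cancel_mono i, MonObj.one_comp, Category.assoc, MonObj.pow_comp, Category.id_comp, MonObj.comp_pow,
        hl, ← hjφ, MonObj.comp_pow, Category.comp_id]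
    haveI := locallyQuasiFinite_pow N hN n hn
    haveI : QuasiCompact (ψ.left ≫ N.hom) := by rw [Over.w ψ]; infer_instance
    haveI : QuasiCompact ψ.left := QuasiCompact.of_comp ψ.left N.hom
    haveI : LocallyQuasiFinite ψ.left := ‹_›
    let v : Limits.pullback u.left (η[G ⊗ I]).left ⟶ pullback ψ.left η[N].left :=
      pullback.lift l.left K.hom (congrArg CommaMorphism.left (hlψ.trans (Hom.one_def ..)))
    have hinj : Function.Injective v := by
      intro x y hxy
      have hcl : IsClosedImmersion η[G ⊗ I].left := by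
        haveI : IsClosedImmersion (η[G ⊗ I].left ≫ (G ⊗ I).hom) := by
          rw [Over.w η[G ⊗ I]]; exact inferInstanceAs (IsClosedImmersion (𝟙 _))
        exact IsClosedImmersion.of_comp η[G ⊗ I].left (G ⊗ I).hom
      haveI : IsClosedImmersion j.left := inferInstanceAs (IsClosedImmersion (pullback.fst u.left η[G ⊗ I].left))
      refine j.left.isClosedEmbedding.injective ?_
      have e : v ≫ pullback.fst ψ.left η[N].left ≫ i.left = j.left := by
        rw [pullback.lift_fst_assoc, ← Over.comp_left, hl]
      rw [← e, Scheme.Hom.comp_apply, hxy, ← Scheme.Hom.comp_apply]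
    let q : pullback ψ.left η[N].left ⟶ Spec (CommRingCat.of k) := pullback.snd ψ.left η[N].left
    haveI : LocallyQuasiFinite q := inferInstanceAs (LocallyQuasiFinite (pullback.snd ψ.left η[N].left))
    haveI : DiscreteTopology ↥(pullback ψ.left η[N].left) := by
      have h := q.isDiscrete_preimage_singleton (IsLocalRing.closedPoint k)
      exact isDiscrete_univ_iff.mp (h.mono fun z _ => @Subsingleton.elim (Spec (CommRingCat.of k)) inferInstance _ _)
    exact DiscreteTopology.of_continuous_injective v.continuous hinj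
  haveI : IsFinite u.left := HomFinite.isFinite_of_discrete_ker u hd
  haveI : IsAffineHom I.hom := isAffineHom_of_isAffine I.hom
  haveI : IsAffineHom (fst G I).left := MorphismProperty.pullback_fst G.hom I.hom ‹_›
  show IsAffineHom φ.left
  rw [show φ = u ≫ fst G I from (lift_fst _ _).symm, Over.comp_left]
  infer_instance

end Groth.Agent.GrpAffPow
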